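import Groth.Prelude.Def_Lef
import Groth.Agent.AltN1.Basic
import Groth.Agent.LefConn.Basic

/-!
# Limits of finite connected algebras over an algebraically closed field are local
-/

set_option autoImplicit false
set_option backward.isDefEq.respectTransparency false

universe u

open CategoryTheory CategoryTheory.Limits AlgebraicGeometry TopologicalSpace Opposite

noncomputable section

namespace Groth.Agent.FormalFun

/-- In a finite algebra with trivial idempotents over an algebraically closed field every element is a constant
up to a nilpotent. -/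
theorem exists_const {k R : Type u} [Field k] [IsAlgClosed k] [CommRing R] (ψ : k →+* R)
    (hfin : letI := ψ.toAlgebra; Module.Finite k R) (hid : ∀ e : R, IsIdempotentElem e → e = 0 ∨ e = 1) (a : R) :
    ∃ c : k, IsNilpotent (a - ψ c) := by
  classical
  letI := ψ.toAlgebra
  haveI := hfin
  haveI : IsArtinianRing R := IsArtinianRing.of_finite k R
  have hdich : ∀ x : R, IsUnit x ∨ IsNilpotent x := fun x => by
    obtain ⟨n, y, hy⟩ := IsArtinian.exists_pow_succ_smul_dvd (M := R) x (1 : R)
    rw [smul_eq_mul, smul_eq_mul, mul_one] at hy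
    have hk : ∀ m, x ^ (n + m) * y ^ m = x ^ n := fun m => by
      induction m with
      | zero => simp
      | succ m ih =>
        calc x ^ (n + (m + 1)) * y ^ (m + 1) = x ^ m * (x ^ n.succ * y) * y ^ m := by
              simp only [Nat.succ_eq_add_one, pow_add, pow_one]; ring
          _ = x ^ (n + m) * y ^ m := by rw [hy, pow_add]; ring
          _ = x ^ n := ih
    have he : IsIdempotentElem (x ^ n * y ^ n) := by
      calc x ^ n * y ^ n * (x ^ n * y ^ n) = x ^ (n + n) * y ^ n * y ^ n := by rw [pow_add]; ring
        _ = x ^ n * y ^ n := by rw [hk n]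
    rcases hid _ he with h | h
    · refine Or.inr ⟨n, ?_⟩
      calc x ^ n = x ^ n * (x ^ n * y ^ n) := by rw [← mul_assoc, ← pow_add, hk n]
        _ = 0 := by rw [h, mul_zero]
    · refine Or.inl ?_
      rcases Nat.eq_zero_or_pos n with rfl | hn
      · exact IsUnit.of_mul_eq_one y (by simpa using hy)
      · exact (isUnit_pow_iff hn.ne').1 (IsUnit.of_mul_eq_one (y ^ n) h)
  by_contra hne
  push Not at hne
  have hsplit := IsAlgClosed.splits (minpoly k a)
  obtain ⟨s, hs⟩ := Polynomial.splits_iff_exists_multiset.1 hsplit
  have h0 := minpoly.aeval k a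
  rw [hs, map_mul, Polynomial.aeval_C, map_multiset_prod, Multiset.map_map] at h0
  have hmonic := (minpoly.monic (Algebra.IsIntegral.isIntegral (R := k) a)).leadingCoeff
  rw [hmonic, map_one, one_mul] at h0
  have hu : IsUnit (Multiset.map ((⇑(Polynomial.aeval a)) ∘ fun c => Polynomial.X - Polynomial.C c) s).prod := by
    refine Submonoid.multiset_prod_mem (IsUnit.submonoid R) _ fun z hz => ?_
    obtain ⟨c, -, rfl⟩ := Multiset.mem_map.1 hz
    simp only [Function.comp_apply, map_sub, Polynomial.aeval_X, Polynomial.aeval_C]
    exact (hdich _).resolve_right (hne c)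
  rw [h0] at hu
  have : (1 : R) = 0 := by
    obtain ⟨v, hv⟩ := hu.exists_left_inv
    rw [mul_zero] at hv
    exact hv.symm
  exact hne 0 ⟨1, by rw [pow_one, ← mul_one (a - ψ 0), this, mul_zero]⟩

/-- A constant congruent to another modulo nilpotents is equal to it. -/
theorem const_unique {k R : Type u} [Field k] [CommRing R] [Nontrivial R] (ψ : k →+* R) {a : R} {c c' : k}
    (h : IsNilpotent (a - ψ c)) (h' : IsNilpotent (a - ψ c')) : c = c' := by
  have hn : IsNilpotent (ψ (c' - c)) := by
    have := (Commute.all _ _).isNilpotent_sub h h'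
    rwa [show a - ψ c - (a - ψ c') = ψ (c' - c) by rw [map_sub]; ring] at this
  by_contra hne
  exact (IsUnit.not_isNilpotent ((IsUnit.mk0 (c' - c) (sub_ne_zero.2 (Ne.symm hne))).map ψ)) hn

end Groth.Agent.FormalFun
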